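/- Locally essentially of finite type morphisms: refinement to genuine EssFiniteType pieces. -/
import Mathlib
import Groth.Prelude.Def_EssFT

set_option autoImplicit false
set_option linter.style.haveILetI false
universe u
open CategoryTheory AlgebraicGeometry

namespace Groth.Agent.EssFTLocal

variable {X Y Z : Scheme.{u}} (f : X ⟶ Y)

/-- the affine opens of `f⁻¹U` essentially of finite type over `U` -/
def pieces (U : Y.affineOpens) : Set X.affineOpens :=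
  {V | ∃ e : (V : X.Opens) ≤ f ⁻¹ᵁ (U : Y.Opens), (f.appLE (U : Y.Opens) (V : X.Opens) e).hom.EssFiniteType}

theorem cover_of_mem (U : Y.affineOpens)
    (h : ∀ x ∈ f ⁻¹ᵁ (U : Y.Opens), ∃ V ∈ pieces f U, x ∈ (V : X.Opens)) :
    (⋃ V ∈ pieces f U, ((V : X.Opens) : Set ↥X)) = ((f ⁻¹ᵁ (U : Y.Opens)) : Set ↥X) := by
  apply Set.Subset.antisymm
  · exact Set.iUnion₂_subset fun V hV => hV.1
  · intro x hx
    obtain ⟨V, hV, hxV⟩ := h x hx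
    exact Set.mem_biUnion hV hxV

theorem locally_of_cover
    (h : ∃ S : Set Y.affineOpens, (⋃ U ∈ S, ((U : Y.Opens) : Set ↥Y)) = Set.univ ∧
      ∀ U ∈ S, ∃ T : Set X.affineOpens, (⋃ V ∈ T, ((V : X.Opens) : Set ↥X)) = ((f ⁻¹ᵁ (U : Y.Opens)) : Set ↥X) ∧
        ∀ V ∈ T, ∃ e : (V : X.Opens) ≤ f ⁻¹ᵁ (U : Y.Opens), (f.appLE (U : Y.Opens) (V : X.Opens) e).hom.EssFiniteType) :
    EssFT.LocallyEssFiniteType f := by
  obtain ⟨S, hS, h⟩ := h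
  refine ⟨fun x => ?_⟩
  obtain ⟨U, hU, hxU⟩ := Set.mem_iUnion₂.1 (hS.ge (Set.mem_univ (f x)))
  obtain ⟨T, hT, hT'⟩ := h U hU
  obtain ⟨V, hV, hxV⟩ := Set.mem_iUnion₂.1 (hT.ge (show x ∈ f ⁻¹ᵁ (U : Y.Opens) from hxU))
  obtain ⟨e, he⟩ := hT' V hV
  exact ⟨U, V, hxV, e, he⟩

theorem exists_piece [EssFT.LocallyEssFiniteType f] (U : Y.affineOpens) (x : X)
    (hx : x ∈ f ⁻¹ᵁ (U : Y.Opens)) : ∃ V ∈ pieces f U, x ∈ (V : X.Opens) := by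
  obtain ⟨V, hV, hxV, hle⟩ := exists_isAffineOpen_mem_and_subset hx
  obtain ⟨s, hs, hst⟩ := HasRingHomProperty.appLE @EssFT.LocallyEssFiniteType f inferInstance U ⟨V, hV⟩ hle
  have hc := (hV.iSup_basicOpen_eq_self_iff (s := s)).2 hs
  obtain ⟨⟨t, ht⟩, hxt⟩ := TopologicalSpace.Opens.mem_iSup.1 (hc.ge hxV)
  refine ⟨⟨X.basicOpen t, hV.basicOpen t⟩, ⟨(X.basicOpen_le t).trans hle, ?_⟩, hxt⟩
  letI := (X.presheaf.map (homOfLE (X.basicOpen_le t)).op).hom.toAlgebra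
  haveI : IsLocalization.Away t Γ(X, X.basicOpen t) := hV.isLocalization_basicOpen t
  let e := IsLocalization.algEquiv (Submonoid.powers t) (Localization.Away t) Γ(X, X.basicOpen t)
  have h1 := (RingHom.EssFiniteType.respectsIso).1 _ e.toRingEquiv (hst t ht)
  convert! h1 using 1
  rw [← Scheme.Hom.appLE_map f hle (homOfLE (X.basicOpen_le t)).op, CommRingCat.hom_comp]
  ext a
  exact (e.commutes _).symm

theorem exists_cover [EssFT.LocallyEssFiniteType f] (U : Y.affineOpens) :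
    ∃ T : Set X.affineOpens, (⋃ V ∈ T, ((V : X.Opens) : Set ↥X)) = ((f ⁻¹ᵁ (U : Y.Opens)) : Set ↥X) ∧
      ∀ V ∈ T, ∃ e : (V : X.Opens) ≤ f ⁻¹ᵁ (U : Y.Opens), (f.appLE (U : Y.Opens) (V : X.Opens) e).hom.EssFiniteType :=
  ⟨pieces f U, cover_of_mem f U (exists_piece f U), fun _ hV => hV⟩

theorem iff_forall :
    (∃ S : Set Y.affineOpens, (⋃ U ∈ S, ((U : Y.Opens) : Set ↥Y)) = Set.univ ∧
      ∀ U ∈ S, ∃ T : Set X.affineOpens, (⋃ V ∈ T, ((V : X.Opens) : Set ↥X)) = ((f ⁻¹ᵁ (U : Y.Opens)) : Set ↥X) ∧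
        ∀ V ∈ T, ∃ e : (V : X.Opens) ≤ f ⁻¹ᵁ (U : Y.Opens), (f.appLE (U : Y.Opens) (V : X.Opens) e).hom.EssFiniteType) ↔
    ∀ U : Y.affineOpens, ∃ T : Set X.affineOpens, (⋃ V ∈ T, ((V : X.Opens) : Set ↥X)) = ((f ⁻¹ᵁ (U : Y.Opens)) : Set ↥X) ∧
        ∀ V ∈ T, ∃ e : (V : X.Opens) ≤ f ⁻¹ᵁ (U : Y.Opens), (f.appLE (U : Y.Opens) (V : X.Opens) e).hom.EssFiniteType := by
  refine ⟨fun h U => ?_, fun h => ⟨Set.univ, ?_, fun U _ => h U⟩⟩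
  · haveI := locally_of_cover f h
    exact exists_cover f U
  · refine Set.eq_univ_of_forall fun y => ?_
    obtain ⟨U, hU, hy, -⟩ := exists_isAffineOpen_mem_and_subset (U := (⊤ : Y.Opens)) (x := y) trivial
    exact Set.mem_biUnion (x := (⟨U, hU⟩ : Y.affineOpens)) trivial hy

theorem iff_forall_finite :
    ((∃ S : Set Y.affineOpens, (⋃ U ∈ S, ((U : Y.Opens) : Set ↥Y)) = Set.univ ∧
      ∀ U ∈ S, ∃ T : Set X.affineOpens, (⋃ V ∈ T, ((V : X.Opens) : Set ↥X)) = ((f ⁻¹ᵁ (U : Y.Opens)) : Set ↥X) ∧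
        ∀ V ∈ T, ∃ e : (V : X.Opens) ≤ f ⁻¹ᵁ (U : Y.Opens), (f.appLE (U : Y.Opens) (V : X.Opens) e).hom.EssFiniteType) ∧ QuasiCompact f) ↔
    ∀ U : Y.affineOpens, ∃ T : Set X.affineOpens, T.Finite ∧ (⋃ V ∈ T, ((V : X.Opens) : Set ↥X)) = ((f ⁻¹ᵁ (U : Y.Opens)) : Set ↥X) ∧
        ∀ V ∈ T, ∃ e : (V : X.Opens) ≤ f ⁻¹ᵁ (U : Y.Opens), (f.appLE (U : Y.Opens) (V : X.Opens) e).hom.EssFiniteType := by
  constructor
  · rintro ⟨h, hqc⟩ U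
    obtain ⟨T, hT, hT'⟩ := (iff_forall f).1 h U
    have hc : IsCompact ((f ⁻¹ᵁ (U : Y.Opens)) : Set ↥X) :=
      QuasiCompact.isCompact_preimage (f := f) _ U.1.isOpen U.2.isCompact
    obtain ⟨T', hsub, hfin, hcov⟩ := hc.elim_finite_subcover_image
      (b := T) (c := fun V : X.affineOpens => ((V : X.Opens) : Set ↥X)) (fun V _ => V.1.isOpen) hT.ge
    refine ⟨T', hfin, Set.Subset.antisymm ?_ hcov, fun V hV => hT' V (hsub hV)⟩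
    exact (Set.biUnion_subset_biUnion_left hsub).trans hT.le
  · intro h
    refine ⟨(iff_forall f).2 fun U => ?_, ?_⟩
    · obtain ⟨T, -, hT, hT'⟩ := h U
      exact ⟨T, hT, hT'⟩
    · refine quasiCompact_iff_forall_isAffineOpen.2 fun U hU => ?_
      obtain ⟨T, hfin, hT, -⟩ := h ⟨U, hU⟩
      rw [← hT]
      exact hfin.isCompact_biUnion fun V _ => V.2.isCompact

theorem comp (g : Y ⟶ Z)
    (hf : ∀ U : Y.affineOpens, ∃ T : Set X.affineOpens, (⋃ V ∈ T, ((V : X.Opens) : Set ↥X)) = ((f ⁻¹ᵁ (U : Y.Opens)) : Set ↥X) ∧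
        ∀ V ∈ T, ∃ e : (V : X.Opens) ≤ f ⁻¹ᵁ (U : Y.Opens), (f.appLE (U : Y.Opens) (V : X.Opens) e).hom.EssFiniteType)
    (hg : ∀ U : Z.affineOpens, ∃ T : Set Y.affineOpens, (⋃ V ∈ T, ((V : Y.Opens) : Set ↥Y)) = ((g ⁻¹ᵁ (U : Z.Opens)) : Set ↥Y) ∧
        ∀ V ∈ T, ∃ e : (V : Y.Opens) ≤ g ⁻¹ᵁ (U : Z.Opens), (g.appLE (U : Z.Opens) (V : Y.Opens) e).hom.EssFiniteType)
    (U : Z.affineOpens) :
    ∃ T : Set X.affineOpens, (⋃ V ∈ T, ((V : X.Opens) : Set ↥X)) = (((f ≫ g) ⁻¹ᵁ (U : Z.Opens)) : Set ↥X) ∧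
        ∀ V ∈ T, ∃ e : (V : X.Opens) ≤ (f ≫ g) ⁻¹ᵁ (U : Z.Opens), ((f ≫ g).appLE (U : Z.Opens) (V : X.Opens) e).hom.EssFiniteType := by
  refine ⟨pieces (f ≫ g) U, cover_of_mem _ U fun x hx => ?_, fun _ hV => hV⟩
  obtain ⟨Tg, hTg, hTg'⟩ := hg U
  obtain ⟨W, hW, hxW⟩ := Set.mem_iUnion₂.1 (hTg.ge (show f x ∈ g ⁻¹ᵁ (U : Z.Opens) from hx))
  obtain ⟨eW, heW⟩ := hTg' W hW
  obtain ⟨Tf, hTf, hTf'⟩ := hf W
  obtain ⟨V, hV, hxV⟩ := Set.mem_iUnion₂.1 (hTf.ge (show x ∈ f ⁻¹ᵁ (W : Y.Opens) from hxW))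
  obtain ⟨eV, heV⟩ := hTf' V hV
  refine ⟨V, ⟨fun z hz => eW (eV hz), ?_⟩, hxV⟩
  rw [← Scheme.Hom.appLE_comp_appLE f g U.1 W.1 V.1 eW eV, CommRingCat.hom_comp]
  exact RingHom.EssFiniteType.stableUnderComposition _ _ heW heV

end Groth.Agent.EssFTLocal
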